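import Groth.Agent.AVTors.TorusHom
import Groth.Agent.H23.BcComp
import Groth.Agent.SolvGrp.Fibre
import Groth.Agent.HMTorus.OneParam
import Groth.Agent.GrpSchLib.LargestNormalSep
import Groth.Prelude.Def_WeilRes

/-!
# Homomorphisms from the multiplicative group to Weil restrictions of abelian schemes
-/

set_option autoImplicit false
set_option backward.isDefEq.respectTransparency false
set_option backward.isDefEq.respectTransparency.types false

universe u

open CategoryTheory CategoryTheory.Limits MonoidalCategory CartesianMonoidalCategory MonObj AlgebraicGeometry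

namespace Groth.Agent.WeilTorus5

set_option synthInstance.maxHeartbeats 400000
set_option maxHeartbeats 1000000

theorem iso_inv_fst {S S' S'' : Scheme.{u}} (f : S'' ⟶ S') (g : S' ⟶ S) {h : S'' ⟶ S} (e : f ≫ g = h) (A : Over S) :
    ((H23.BcComp.iso f g e).inv.app A).left ≫ pullback.fst A.hom h = pullback.fst _ f ≫ pullback.fst A.hom g := by
  subst e
  simp only [H23.BcComp.inv_app, eqToHom_refl, Category.comp_id]
  exact GrpSchLib.LargestNormalSep.pullbackComp_inv_fst f g A

theorem iso_hom_fst {S S' S'' : Scheme.{u}} (f : S'' ⟶ S') (g : S' ⟶ S) {h : S'' ⟶ S} (e : f ≫ g = h) (A : Over S) :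
    ((H23.BcComp.iso f g e).hom.app A).left ≫ pullback.fst _ f ≫ pullback.fst A.hom g = pullback.fst A.hom h := by
  rw [← iso_inv_fst f g e A]
  have := congrArg (fun z => z.left) ((H23.BcComp.iso f g e).hom_inv_id_app A)
  exact (Category.assoc _ _ _).symm.trans ((congrArg (· ≫ pullback.fst A.hom h) this).trans (Category.id_comp _))

theorem hom_eq_one {S S' S'' : Scheme.{u}} (f : S' ⟶ S) (σ : S'' ⟶ S) (E : Over S') [GrpObj E] [IsProper E.hom]
    [Smooth E.hom] (hEc : ∀ (Ω' : Type u) [Field Ω'] (t : Spec (CommRingCat.of Ω') ⟶ S'),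
      ConnectedSpace ↥(pullback E.hom t))
    (R : Over S) [GrpObj R] (q : Red.bc f R ⟶ E) [IsMonHom q] (hR : WeilRes.IsWeilRes f E R q)
    {T' : Over S''} [GrpObj T'] (hT : Red.IsTorus T') (φ : T' ⟶ Red.bc σ R) [IsMonHom φ] : φ = 1 := by
  let T : Over S := Over.mk (T'.hom ≫ σ)
  let g : T ⟶ R := Over.homMk (φ.left ≫ pullback.fst R.hom σ) (by
    show (φ.left ≫ pullback.fst R.hom σ) ≫ R.hom = T'.hom ≫ σ
    rw [Category.assoc, pullback.condition, ← Category.assoc]
    exact congrArg (· ≫ σ) (Over.w φ))
  let a := pullback.fst σ f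
  let b := pullback.snd σ f
  have hab : b ≫ f = a ≫ σ := pullback.condition.symm
  let e₁ : Red.bc a (Red.bc σ R) ⟶ Red.bc (a ≫ σ) R := (H23.BcComp.iso a σ rfl).inv.app R
  let e₂ : Red.bc (a ≫ σ) R ⟶ Red.bc b (Red.bc f R) := (H23.BcComp.iso b f hab).hom.app R
  haveI : IsMonHom e₁ := H23.BcComp.isMonHom_inv a σ rfl R
  haveI : IsMonHom e₂ := H23.BcComp.isMonHom_hom b f hab R
  let pre : Red.bc a T' ⟶ Red.bc b (Red.bc f R) := (Over.pullback a).map φ ≫ e₁ ≫ e₂
  haveI : Smooth (Red.bc b E).hom := inferInstanceAs (Smooth (pullback.snd E.hom b))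
  haveI : IsProper (Red.bc b E).hom := inferInstanceAs (IsProper (pullback.snd E.hom b))
  have hψ : pre ≫ (Over.pullback b).map q = 1 := by
    refine AVTors.torus_hom_eq_one (SolvGrp.isTorus_bc a hT) (fun s => ?_) _
    haveI := hEc ((pullback σ f).residueField s) ((pullback σ f).fromSpecResidueField s ≫ b)
    let e := pullbackLeftPullbackSndIso E.hom b ((pullback σ f).fromSpecResidueField s)
    exact (e.inv.homeomorph.surjective.connectedSpace e.inv.continuous)
  have hψ' : pre ≫ (Over.pullback b).map q = pre ≫ (Over.pullback b).map (1 : Red.bc f R ⟶ E) := by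
    rw [hψ, CategoryTheory.Functor.map_one, MonObj.comp_one]
  let θ : (Red.bc f T).left ⟶ (Red.bc a T').left :=
    pullback.lift (pullback.fst T.hom f) (pullback.lift (pullback.fst T.hom f ≫ T'.hom) (pullback.snd T.hom f)
      (by rw [Category.assoc]; exact pullback.condition)) (pullback.lift_fst _ _ _).symm
  have hθ : θ ≫ pre.left ≫ pullback.fst (Red.bc f R).hom b = ((Over.pullback f).map g).left := by
    refine pullback.hom_ext ?_ ?_
    · have h1 : ((Over.pullback a).map φ).left ≫ pullback.fst (Red.bc σ R).hom a = pullback.fst T'.hom a ≫ φ.left :=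
        pullback.lift_fst _ _ _
      have h2 : ((Over.pullback f).map g).left ≫ pullback.fst R.hom f = pullback.fst T.hom f ≫ g.left :=
        pullback.lift_fst _ _ _
      refine Eq.trans ?_ h2.symm
      simp only [pre, Over.comp_left, Category.assoc]
      erw [iso_hom_fst b f hab R, iso_inv_fst a σ rfl R, reassoc_of% h1]
      exact pullback.lift_fst_assoc _ _ _ _
    · have h3 : pre.left ≫ pullback.fst (Red.bc f R).hom b ≫ pullback.snd R.hom f = pullback.snd T'.hom a ≫ b := by
        have h4 : pre.left ≫ pullback.snd (Red.bc f R).hom b = pullback.snd T'.hom a := Over.w pre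
        rw [← h4, Category.assoc]
        exact congrArg (pre.left ≫ ·) pullback.condition
      have h5 : ((Over.pullback f).map g).left ≫ pullback.snd R.hom f = pullback.snd T.hom f := pullback.lift_snd _ _ _
      refine Eq.trans ?_ h5.symm
      simp only [Category.assoc]
      erw [h3]
      rw [pullback.lift_snd_assoc]
      exact pullback.lift_snd _ _ _
  have hg : g = 1 := by
    refine (hR T).injective ?_
    rw [WeilRes.restr_one, WeilRes.restr_apply, ← MonObj.comp_one ((Over.pullback f).map g)]
    refine Over.OverMorphism.ext ?_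
    have h := congrArg (fun z => θ ≫ z.left ≫ pullback.fst E.hom b) hψ'
    have hm : ∀ r : Red.bc f R ⟶ E, ((Over.pullback b).map r).left ≫ pullback.fst E.hom b =
        pullback.fst (Red.bc f R).hom b ≫ r.left := fun r => pullback.lift_fst _ _ _
    simp only [Over.comp_left, Category.assoc] at h ⊢
    rw [hm, hm] at h
    rw [← hθ]
    simp only [Category.assoc]
    exact h
  let j : T' ⟶ Red.bc σ T := Over.homMk (pullback.lift (𝟙 _) T'.hom (Category.id_comp _)) (pullback.lift_snd _ _ _)
  have hj : φ = j ≫ (Over.pullback σ).map g := by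
    refine Over.OverMorphism.ext (pullback.hom_ext ?_ ?_)
    · have h6 : ((Over.pullback σ).map g).left ≫ pullback.fst R.hom σ = pullback.fst T.hom σ ≫ g.left :=
        pullback.lift_fst _ _ _
      simp only [Over.comp_left, Category.assoc]
      erw [h6, pullback.lift_fst_assoc, Category.id_comp]
      rfl
    · exact (Over.w φ).trans (Over.w (j ≫ (Over.pullback σ).map g)).symm
  refine hj.trans ?_
  rw [hg, CategoryTheory.Functor.map_one, MonObj.comp_one]

end Groth.Agent.WeilTorus5
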